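import Cfsg.Agent.Lib.Helper28.TCProb

set_option autoImplicit false
set_option maxRecDepth 100000

namespace Cfsg.Agent.Lib.Helper93.J3

open Cfsg.Agent.Lib.Helper28 Cfsg.Spor

/-- generators of the presentation -/
inductive Gen | a | b | t
  deriving DecidableEq

def lfree : ℕ → FreeGroup Gen
  | 0 => FreeGroup.of .a
  | 1 => FreeGroup.of .b
  | 2 => (FreeGroup.of .b)⁻¹
  | 3 => FreeGroup.of .t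
  | _ => (FreeGroup.of .t)⁻¹
def inv : ℕ → ℕ
  | 0 => 0
  | 1 => 2
  | 2 => 1
  | 3 => 4
  | 4 => 3
  | x => x
def enc : Gen → ℕ
  | .a => 0
  | .b => 1
  | .t => 3
def extraE : List WExp := [
  (.pow (.g 1) 3),
  (.pow (.mul (.g 0) (.g 1)) 19),
  (.pow (.mul (.mul (.mul (.g 0) (.g 2)) (.g 0)) (.g 1)) 9),
  (.pow (.mul (.mul (.mul (.mul (.mul (.mul (.mul (.mul (.mul (.mul (.mul (.mul (.mul (.mul (.mul (.mul (.mul (.mul (.mul (.mul (.mul (.g 0) (.g 1)) (.g 0)) (.g 1)) (.g 0)) (.g 1)) (.g 0)) (.g 1)) (.g 0)) (.g 1)) (.g 0)) (.g 1)) (.g 0)) (.g 2)) (.g 0)) (.g 2)) (.g 0)) (.g 2)) (.g 0)) (.g 2)) (.g 0)) (.g 2)) 2),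
  (.pow (.mul (.mul (.mul (.mul (.mul (.mul (.mul (.mul (.mul (.mul (.mul (.mul (.mul (.mul (.mul (.mul (.mul (.mul (.mul (.mul (.mul (.g 0) (.g 1)) (.g 0)) (.g 1)) (.g 0)) (.g 2)) (.g 0)) (.g 1)) (.g 0)) (.g 1)) (.g 0)) (.g 2)) (.g 0)) (.g 1)) (.g 0)) (.g 2)) (.g 0)) (.g 2)) (.g 0)) (.g 1)) (.g 0)) (.g 2)) 2),
  (.mul (.mul (.mul (.mul (.mul (.mul (.mul (.mul (.mul (.mul (.mul (.mul (.mul (.mul (.mul (.mul (.mul (.mul (.mul (.mul (.mul (.mul (.mul (.mul (.mul (.mul (.mul (.mul (.mul (.mul (.mul (.mul (.mul (.mul (.mul (.mul (.mul (.mul (.mul (.mul (.mul (.mul (.mul (.mul (.mul (.mul (.mul (.mul (.mul (.g 0) (.g 1)) (.g 0)) (.g 1)) (.g 0)) (.g 1)) (.g 0)) (.g 2)) (.g 0)) (.g 1)) (.g 0)) (.g 2)) (.g 0)) (.g 1)) (.g 0)) (.g 2)) (.g 0)) (.g 1)) (.g 0)) (.g 1)) (.g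 0)) (.g 1)) (.g 0)) (.g 2)) (.g 0)) (.g 1)) (.g 0)) (.g 2)) (.g 0)) (.g 1)) (.g 0)) (.g 2)) (.g 0)) (.g 1)) (.g 0)) (.g 2)) (.g 0)) (.g 2)) (.g 0)) (.g 1)) (.g 0)) (.g 2)) (.g 0)) (.g 1)) (.g 0)) (.g 2)) (.g 0)) (.g 1)) (.g 0)) (.g 2)),
  (.pow (.mul (.mul (.mul (.mul (.mul (.mul (.mul (.mul (.mul (.mul (.mul (.mul (.mul (.g 0) (.g 1)) (.g 0)) (.g 1)) (.g 0)) (.g 1)) (.g 0)) (.g 1)) (.g 0)) (.g 2)) (.g 0)) (.g 1)) (.g 0)) (.g 2)) 4),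
  (.mul (.mul (.mul (.mul (.mul (.mul (.mul (.mul (.mul (.mul (.mul (.mul (.mul (.mul (.mul (.mul (.mul (.mul (.mul (.mul (.mul (.mul (.mul (.mul (.mul (.mul (.mul (.mul (.mul (.mul (.mul (.g 4) (.g 1)) (.g 0)) (.g 1)) (.g 0)) (.g 2)) (.g 0)) (.g 1)) (.g 0)) (.g 1)) (.g 0)) (.g 1)) (.g 0)) (.g 1)) (.g 0)) (.g 1)) (.g 0)) (.g 2)) (.g 0)) (.g 2)) (.g 0)) (.g 1)) (.g 0)) (.g 1)) (.g 0)) (.g 1)) (.g 0)) (.g 1)) (.g 0)) (.g 2)) (.g 0)) (.g 2)),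
  (.mul (.mul (.mul (.mul (.mul (.mul (.mul (.mul (.mul (.mul (.mul (.mul (.mul (.mul (.mul (.mul (.mul (.g 2) (.g 0)) (.g 1)) (.g 0)) (.g 1)) (.g 4)) (.g 0)) (.g 4)) (.g 0)) (.g 4)) (.g 0)) (.g 4)) (.g 4)) (.g 0)) (.g 4)) (.g 4)) (.g 4)) (.g 0)),
  (.pow (.g 3) 10),
  (.pow (.mul (.mul (.mul (.mul (.mul (.mul (.mul (.g 0) (.g 3)) (.g 0)) (.g 3)) (.g 0)) (.g 3)) (.g 0)) (.g 4)) 2),
  (.pow (.mul (.mul (.mul (.mul (.mul (.mul (.mul (.g 0) (.g 3)) (.g 0)) (.g 3)) (.g 3)) (.g 3)) (.g 3)) (.g 3)) 2),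
  (.pow (.mul (.g 0) (.g 3)) 10),
  (.pow (.mul (.mul (.mul (.mul (.mul (.mul (.mul (.mul (.mul (.mul (.g 0) (.g 3)) (.g 0)) (.g 3)) (.g 3)) (.g 0)) (.g 4)) (.g 0)) (.g 3)) (.g 0)) (.g 4)) 3)]
def pd : PD Gen where
  edges := [(.a, 1, .a)]
  extra := extraE.map (WExp.value lfree)
  K := 5
  lfree := lfree
  inv := inv
  enc := enc
  nodesL := [.a]
  extraE := extraE
theorem pd_ok : pd.OK where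
  extra := rfl
  extraK := by decide +kernel
  enc := by intro a; cases a <;> exact ⟨rfl, by decide⟩
  nodes1 := by decide
  nodes2 := by decide
  inv := by
    intro x hx
    have hx' : x < 5 := hx
    interval_cases x
    · exact ⟨by decide, Or.inr ⟨rfl, .a, by decide, rfl⟩⟩
    · exact ⟨by decide, Or.inl rfl⟩
    · exact ⟨by decide, Or.inl (inv_inv _).symm⟩
    · exact ⟨by decide, Or.inl rfl⟩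
    · exact ⟨by decide, Or.inl (inv_inv _).symm⟩

theorem pd_letters : ∀ x < pd.K, (∃ a, x = pd.enc a) ∨ (∃ a, x = pd.inv (pd.enc a) ∧ pd.lfree x = (FreeGroup.of a)⁻¹) := by
  intro x hx
  have hx' : x < 5 := hx
  interval_cases x
  · exact Or.inl ⟨.a, rfl⟩
  · exact Or.inl ⟨.b, rfl⟩
  · exact Or.inr ⟨.b, rfl, rfl⟩
  · exact Or.inl ⟨.t, rfl⟩
  · exact Or.inr ⟨.t, rfl, rfl⟩

theorem pd_wordsK : ∀ w ∈ pd.words, ∀ y ∈ w, y < pd.K := by decide +kernel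

/-- the relator words, written out -/
def W : List (List ℕ) := [
  [0, 0],
  [1, 1, 1],
  [0, 1, 0, 1, 0, 1, 0, 1, 0, 1, 0, 1, 0, 1, 0, 1, 0, 1, 0, 1, 0, 1, 0, 1, 0, 1, 0, 1, 0, 1, 0, 1, 0, 1, 0, 1, 0, 1],
  [0, 2, 0, 1, 0, 2, 0, 1, 0, 2, 0, 1, 0, 2, 0, 1, 0, 2, 0, 1, 0, 2, 0, 1, 0, 2, 0, 1, 0, 2, 0, 1, 0, 2, 0, 1],
  [0, 1, 0, 1, 0, 1, 0, 1, 0, 1, 0, 1, 0, 2, 0, 2, 0, 2, 0, 2, 0, 2, 0, 1, 0, 1, 0, 1, 0, 1, 0, 1, 0, 1, 0, 2, 0, 2, 0, 2, 0, 2, 0, 2],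
  [0, 1, 0, 1, 0, 2, 0, 1, 0, 1, 0, 2, 0, 1, 0, 2, 0, 2, 0, 1, 0, 2, 0, 1, 0, 1, 0, 2, 0, 1, 0, 1, 0, 2, 0, 1, 0, 2, 0, 2, 0, 1, 0, 2],
  [0, 1, 0, 1, 0, 1, 0, 2, 0, 1, 0, 2, 0, 1, 0, 2, 0, 1, 0, 1, 0, 1, 0, 2, 0, 1, 0, 2, 0, 1, 0, 2, 0, 1, 0, 2, 0, 2, 0, 1, 0, 2, 0, 1, 0, 2, 0, 1, 0, 2],
  [0, 1, 0, 1, 0, 1, 0, 1, 0, 2, 0, 1, 0, 2, 0, 1, 0, 1, 0, 1, 0, 1, 0, 2, 0, 1, 0, 2, 0, 1, 0, 1, 0, 1, 0, 1, 0, 2, 0, 1, 0, 2, 0, 1, 0, 1, 0, 1, 0, 1, 0, 2, 0, 1, 0, 2],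
  [4, 1, 0, 1, 0, 2, 0, 1, 0, 1, 0, 1, 0, 1, 0, 1, 0, 2, 0, 2, 0, 1, 0, 1, 0, 1, 0, 1, 0, 2, 0, 2],
  [2, 0, 1, 0, 1, 4, 0, 4, 0, 4, 0, 4, 4, 0, 4, 4, 4, 0],
  [3, 3, 3, 3, 3, 3, 3, 3, 3, 3],
  [0, 3, 0, 3, 0, 3, 0, 4, 0, 3, 0, 3, 0, 3, 0, 4],
  [0, 3, 0, 3, 3, 3, 3, 3, 0, 3, 0, 3, 3, 3, 3, 3],
  [0, 3, 0, 3, 0, 3, 0, 3, 0, 3, 0, 3, 0, 3, 0, 3, 0, 3, 0, 3],
  [0, 3, 0, 3, 3, 0, 4, 0, 3, 0, 4, 0, 3, 0, 3, 3, 0, 4, 0, 3, 0, 4, 0, 3, 0, 3, 3, 0, 4, 0, 3, 0, 4]]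
theorem words_eq : pd.words = W := by decide +kernel

end Cfsg.Agent.Lib.Helper93.J3
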